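import Cfsg.Agent.H2.Fi23C.Basic

/-!
The part of `C(z)` over the three involutions of `W`: the fields `parity` and `out_mul` of
`H2.Fi23C.Facts4`.
-/

set_option autoImplicit false
set_option linter.unusedSectionVars false

namespace H18.Fi23C

open H2.Fi23C
open Subgroup (centralizer mem_centralizer_singleton_iff)

universe u v

variable {G : Type u} [Group G] {F : Type v} [Field F] [Fintype F] {z a b c : G}
  {J K₀ : Subgroup G} {π : ↥K₀ →* Cfsg.PSp 2 F} (S : Setup4 z a b c J K₀ π)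

include S

/-- An element centralising the part of the core centralised by an element of `K₀` is in `K₀`. -/
theorem parity {e d : G} (he : e ∈ K₀) (hd : d ∈ centralizer ({z} : Set G))
    (h : centJ J e ⊆ centJ J d) : d ∈ K₀ :=
  S.mem_K₀ d hd (h ⟨S.a_mem, (S.a_K₀ e he).symm⟩).2.symm (h ⟨S.b_mem, (S.b_K₀ e he).symm⟩).2.symm

/-- The three involutions of `W`. -/
def inv3 (a b : G) : Fin 3 → G := ![a, b, a * b]

omit S in
theorem three_perm : ∀ s t : Fin 3 → Fin 3, (∀ i, s (s i) = i) → (∀ i, t (t i) = i) →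
    (∀ i, s (t i) = t (s i)) → (∃ i, s i ≠ i) → (∃ i, t i ≠ i) → ∀ i, s (t i) = i := by
  decide +kernel

theorem inv3_injective : Function.Injective (inv3 a b) := by
  have h1 : a ≠ b := S.b_ne.2.2.1.symm
  intro i j h
  fin_cases i <;> fin_cases j <;> simp [inv3] at h ⊢ <;>
    first | exact h1 h | exact h1 h.symm | exact S.a_ne.1 h | exact S.a_ne.1 h.symm |
      exact S.b_ne.1 h | exact S.b_ne.1 h.symm

theorem conj_inv3 {g : G} (hg : g ∈ centralizer ({z} : Set G)) (i : Fin 3) :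
    ∃ j, g * inv3 a b i * g⁻¹ = inv3 a b j := by
  have hne : inv3 a b i ≠ 1 := by
    fin_cases i
    exacts [S.a_ne.1, S.b_ne.1, fun h => S.b_ne.2.2.1
      (by rw [← one_mul b, ← S.a_sq, mul_assoc, show a * b = 1 from h, mul_one])]
  rcases S.conj_W g hg (inv3 a b i) (by fin_cases i <;> simp [InW, inv3]) with h | h | h | h
  · exact absurd (conj_eq_one_iff.mp h) hne
  · exact ⟨0, h⟩
  · exact ⟨1, h⟩
  · exact ⟨2, h⟩

/-- Two commuting involutions outside `K₀` differ by an element of `K₀`. -/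
theorem out_mul {x y : G} (hx : x ∈ centralizer ({z} : Set G)) (hy : y ∈ centralizer ({z} : Set G))
    (hx2 : x * x = 1) (hy2 : y * y = 1) (hxy : Commute x y) (hxn : x ∉ K₀) (hyn : y ∉ K₀) :
    x * y ∈ K₀ := by
  have hinj := inv3_injective S
  choose s hs using conj_inv3 S hx
  choose t ht using conj_inv3 S hy
  have hcomp : ∀ (g k : G) (u v : Fin 3 → Fin 3),
      (∀ i, g * inv3 a b i * g⁻¹ = inv3 a b (u i)) → (∀ i, k * inv3 a b i * k⁻¹ = inv3 a b (v i)) →
      ∀ i, g * k * inv3 a b i * (g * k)⁻¹ = inv3 a b (u (v i)) := fun g k u v hu hv i => by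
    rw [show g * k * inv3 a b i * (g * k)⁻¹ = g * (k * inv3 a b i * k⁻¹) * g⁻¹ by group, hv, hu]
  have key : ∀ {g : G} {u : Fin 3 → Fin 3}, g ∈ centralizer ({z} : Set G) →
      (∀ i, g * inv3 a b i * g⁻¹ = inv3 a b (u i)) → g ∉ K₀ → ∃ i, u i ≠ i := by
    intro g u hg hu hgn
    by_contra! h
    exact hgn (S.mem_K₀ g hg (mul_inv_eq_iff_eq_mul.mp ((hu 0).trans (congrArg _ (h 0)))).symm
      (mul_inv_eq_iff_eq_mul.mp ((hu 1).trans (congrArg _ (h 1)))).symm)
  have hid := three_perm s t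
    (fun i => hinj ((hcomp x x s s hs hs i).symm.trans (by rw [hx2]; simp)))
    (fun i => hinj ((hcomp y y t t ht ht i).symm.trans (by rw [hy2]; simp)))
    (fun i => hinj ((hcomp x y s t hs ht i).symm.trans (by rw [hxy.eq]; exact hcomp y x t s ht hs i)))
    (key hx hs hxn) (key hy ht hyn)
  by_contra hn
  obtain ⟨i, hi⟩ := key (mul_mem hx hy) (hcomp x y s t hs ht) hn
  exact hi (hid i)

end H18.Fi23C
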